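import Groth.Prelude.Def_Found
import Mathlib.RingTheory.Ideal.KrullsHeightTheorem
import Mathlib.RingTheory.Spectrum.Prime.Basic
import Mathlib.Order.KrullDimension

/-!
# Heights in catenary domains
-/

universe u

namespace Groth.Agent.H24.PowDepth

/-- A chain of maximal length below `a` starts at the bottom and is saturated. -/
theorem exists_saturated_chain {α : Type*} [PartialOrder α] [OrderBot α] (a : α) (n : ℕ)
    (hn : Order.height a = n) : ∃ s : LTSeries α, s.head = ⊥ ∧ s.last = a ∧ s.length = n ∧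
      ∀ i : Fin s.length, s (Fin.castSucc i) ⋖ s (Fin.succ i) := by
  obtain ⟨s, hs, hlen⟩ := Order.exists_series_of_height_eq_coe a hn
  refine ⟨s, ?_, hs, hlen, fun i => ⟨s.step i, fun c h1 h2 => ?_⟩⟩
  · by_contra hne
    have hlt : ⊥ < s.head := bot_lt_iff_ne_bot.2 hne
    have := Order.length_le_height (p := s.cons ⊥ hlt) (x := a) (by rw [RelSeries.last_cons, hs])
    rw [hn, Nat.cast_le] at this
    simp only [RelSeries.cons_length] at this
    omega
  · have := Order.length_le_height (p := s.insertNth i c h1 h2) (x := a) (by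
      refine le_of_eq (Eq.trans ?_ hs)
      change Fin.insertNth (α := fun _ => α) i.castSucc.succ c s.toFun (Fin.last (s.length + 1)) = s.toFun (Fin.last s.length)
      have hlast : Fin.last (s.length + 1) = i.castSucc.succ.succAbove (Fin.last s.length) := by
        rw [Fin.succAbove_of_le_castSucc]
        · exact (Fin.succ_last _).symm
        · rw [Fin.le_def]
          simp
      rw [hlast, Fin.insertNth_apply_succAbove])
    rw [RelSeries.insertNth_length, hn, Nat.cast_le] at this
    omega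

/-- In a Noetherian catenary domain `ht q = ht p + ht (q / p)`. -/
theorem height_eq_add {A : Type u} [CommRing A] [IsDomain A] [IsNoetherianRing A]
    (hcat : CAlg.IsCatenary A) (p : Ideal A) [p.IsPrime] (Q : Ideal (A ⧸ p)) [Q.IsPrime] :
    (Q.comap (Ideal.Quotient.mk p)).height = p.height + Q.height := by
  classical
  let P : PrimeSpectrum A := ⟨p, ‹_›⟩
  let Q' : PrimeSpectrum (A ⧸ p) := ⟨Q, ‹_›⟩
  let q : PrimeSpectrum A := ⟨Q.comap (Ideal.Quotient.mk p), inferInstance⟩
  let f : PrimeSpectrum (A ⧸ p) → PrimeSpectrum A := PrimeSpectrum.comap (Ideal.Quotient.mk p)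
  have hs := Ideal.Quotient.mk_surjective (I := p)
  have hle : ∀ x, P ≤ f x := fun x => by
    show p ≤ x.asIdeal.comap (Ideal.Quotient.mk p)
    intro a ha
    rw [Ideal.mem_comap, Ideal.Quotient.eq_zero_iff_mem.2 ha]
    exact zero_mem _
  have hemb : ∀ x y, f x ≤ f y ↔ x ≤ y := fun x y =>
    ⟨fun h a ha => by
      obtain ⟨a, rfl⟩ := hs a
      exact h ha, fun h => Ideal.comap_mono h⟩
  have hmono : StrictMono f := fun x y h => lt_of_le_not_ge ((hemb x y).2 h.le)
    fun h' => h.not_ge ((hemb y x).1 h')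
  have hrange : ∀ b, P ≤ b → ∃ x, f x = b := fun b hb =>
    ⟨⟨b.asIdeal.map (Ideal.Quotient.mk p), Ideal.map_isPrime_of_surjective hs (by rwa [Ideal.mk_ker])⟩,
      PrimeSpectrum.ext (by
        show (b.asIdeal.map _).comap _ = b.asIdeal
        rw [Ideal.comap_map_of_surjective _ hs, ← RingHom.ker_eq_comap_bot, Ideal.mk_ker]
        exact sup_eq_left.2 hb)⟩
  obtain ⟨m, hm⟩ := ENat.ne_top_iff_exists.1 (show Order.height P ≠ ⊤ by
    rw [← PrimeSpectrum.height_eq_orderHeight]; exact Ideal.height_ne_top_of_isPrime)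
  obtain ⟨l, hl⟩ := ENat.ne_top_iff_exists.1 (show Order.height Q' ≠ ⊤ by
    rw [← PrimeSpectrum.height_eq_orderHeight]; exact Ideal.height_ne_top_of_isPrime)
  obtain ⟨n, hn⟩ := ENat.ne_top_iff_exists.1 (show Order.height q ≠ ⊤ by
    rw [← PrimeSpectrum.height_eq_orderHeight]; exact Ideal.height_ne_top_of_isPrime)
  obtain ⟨s, hs0, hsl, hslen, hscov⟩ := exists_saturated_chain P m hm.symm
  obtain ⟨u, hu0, hul, hulen, hucov⟩ := exists_saturated_chain q n hn.symm
  obtain ⟨t, ht0, htl, htlen, htcov⟩ := exists_saturated_chain Q' l hl.symm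
  let t' := t.map f hmono
  have hfbot : f ⊥ = P := PrimeSpectrum.ext (by
    show (⊥ : Ideal (A ⧸ p)).comap (Ideal.Quotient.mk p) = p
    rw [← RingHom.ker_eq_comap_bot, Ideal.mk_ker])
  have hj : s.last = t'.head := by
    rw [hsl, LTSeries.head_map, ht0, hfbot]
  let w := s.smash t' hj
  have hwcov : ∀ i : Fin w.length, w (Fin.castSucc i) ⋖ w (Fin.succ i) := by
    intro i
    obtain ⟨i, hi⟩ := i
    by_cases hil : i < s.length
    · have h1 : w (Fin.castSucc ⟨i, hi⟩) = s (Fin.castSucc ⟨i, hil⟩) :=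
        RelSeries.smash_castAdd hj ⟨i, hil⟩
      have h2 : w (Fin.succ ⟨i, hi⟩) = s (Fin.succ ⟨i, hil⟩) :=
        RelSeries.smash_succ_castAdd hj ⟨i, hil⟩
      rw [h1, h2]
      exact hscov ⟨i, hil⟩
    · obtain ⟨j, rfl⟩ : ∃ j, i = s.length + j := ⟨i - s.length, by omega⟩
      have hjt : j < t'.length := by
        have : s.length + j < s.length + t'.length := hi
        omega
      have h1 : w (Fin.castSucc ⟨s.length + j, hi⟩) = t' (Fin.castSucc ⟨j, hjt⟩) :=
        RelSeries.smash_natAdd hj ⟨j, hjt⟩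
      have h2 : w (Fin.succ ⟨s.length + j, hi⟩) = t' (Fin.succ ⟨j, hjt⟩) :=
        RelSeries.smash_succ_natAdd hj ⟨j, hjt⟩
      rw [h1, h2]
      refine ⟨t'.step ⟨j, hjt⟩, fun c hc1 hc2 => ?_⟩
      obtain ⟨x, rfl⟩ := hrange c ((hle _).trans hc1.le)
      exact (htcov ⟨j, hjt⟩).2 (lt_of_le_not_ge ((hemb _ _).1 hc1.le) fun h => hc1.not_ge ((hemb _ _).2 h))
        (lt_of_le_not_ge ((hemb _ _).1 hc2.le) fun h => hc2.not_ge ((hemb _ _).2 h))
  have hlen := hcat.2 w u (by rw [RelSeries.head_smash, hs0, hu0])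
    (by rw [RelSeries.last_smash, LTSeries.last_map, htl, hul]; rfl) hwcov hucov
  have e : w.length = s.length + t.length := rfl
  show q.asIdeal.height = P.asIdeal.height + Q'.asIdeal.height
  rw [PrimeSpectrum.height_eq_orderHeight, PrimeSpectrum.height_eq_orderHeight,
    PrimeSpectrum.height_eq_orderHeight, ← hm, ← hl, ← hn, ← hulen, ← hlen, e, hslen, htlen, Nat.cast_add]

end Groth.Agent.H24.PowDepth
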