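import Groth.Agent.Lib.Regular45.QuasiReg
import Groth.Agent.Lib.Depth.Basic

/-!
# Depth of the powers of an ideal generated by a regular sequence
-/

universe u

open MvPolynomial RingTheory.Sequence CAlgX
open Groth.Agent.Lib.Regular45.QuasiReg Groth.Agent.Lib.Depth

namespace Groth.Agent.H24.PowDepth

variable {A : Type u} [CommRing A] {c : ℕ} (f : Fin c → A)

/-- A regular pair modulo `I` is one modulo `I ^ m`, `I` spanned by a quasi-regular sequence. -/
theorem exists_sub_mem_pow (hf : IsQuasiRegular f) {x y : A}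
    (hx : ∀ a, x * a ∈ Ideal.span (Set.range f) → a ∈ Ideal.span (Set.range f))
    (hy : ∀ a b, y * a - x * b ∈ Ideal.span (Set.range f) →
      ∃ e, a - x * e ∈ Ideal.span (Set.range f)) (m : ℕ) (a b : A)
    (h : y * a - x * b ∈ Ideal.span (Set.range f) ^ m) :
    ∃ e, a - x * e ∈ Ideal.span (Set.range f) ^ m := by
  classical
  set I := Ideal.span (Set.range f) with hI
  suffices ∀ k i, i + k = m → ∀ a b, a ∈ I ^ i → y * a - x * b ∈ I ^ m → ∃ e, a - x * e ∈ I ^ m from
    this m 0 (zero_add m) a b (by simp) h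
  intro k
  induction k with
  | zero =>
    intro i hi a b ha _
    exact ⟨0, by simpa [← hi] using ha⟩
  | succ k ih =>
    intro i hi a b ha hab
    have hb : b ∈ I ^ i := mem_pow_of_mul_mem_pow f hf hx i b (by
      have h1 := Ideal.pow_le_pow_right (show i ≤ m by omega) hab
      have h2 := Ideal.mul_mem_left _ y ha
      have := sub_mem h2 h1
      rwa [sub_sub_cancel] at this)
    obtain ⟨qa, hqa, rfl⟩ := (Ideal.mem_span_pow_iff_exists_isHomogeneous f a).mp ha
    obtain ⟨qb, hqb, rfl⟩ := (Ideal.mem_span_pow_iff_exists_isHomogeneous f b).mp hb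
    have hcoef : ∀ d, ∃ e, qa.coeff d - x * e ∈ I := fun d => hy _ (qb.coeff d) (by
      have := hf i (MvPolynomial.C y * qa - MvPolynomial.C x * qb) ((hqa.C_mul y).sub (hqb.C_mul x))
        (by
          rw [map_sub, map_mul, map_mul, eval_C, eval_C]
          exact Ideal.pow_le_pow_right (by omega) hab) d
      rwa [coeff_sub, coeff_C_mul, coeff_C_mul] at this)
    choose e he using hcoef
    let Q : MvPolynomial (Fin c) A := ∑ d ∈ qa.support, monomial d (e d)
    have hQ : Q.IsHomogeneous i := IsHomogeneous.sum _ _ _ fun d hd => isHomogeneous_monomial _ (by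
      rw [Finsupp.degree_eq_weight_one]
      exact hqa (mem_support_iff.mp hd))
    have hQd : ∀ d, (qa - MvPolynomial.C x * Q).coeff d ∈ I := fun d => by
      rw [coeff_sub, coeff_C_mul, coeff_sum]
      simp only [coeff_monomial, Finset.sum_ite_eq']
      split_ifs with hd
      · exact he d
      · simp [MvPolynomial.notMem_support_iff.mp hd]
    have ha' : eval f qa - x * eval f Q ∈ I ^ (i + 1) := by
      have := eval_mem_mul_pow f I (hqa.sub (hQ.C_mul x)) hQd
      rw [map_sub, map_mul, eval_C] at this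
      rwa [pow_succ']
    obtain ⟨e', he'⟩ := ih (i + 1) (by omega) _ (eval f qb - y * eval f Q) ha' (by
      convert hab using 1
      ring)
    exact ⟨eval f Q + e', by convert he' using 1; ring⟩

/-- The depth along `K` of `A ⧸ I ^ m` is at least two if that of `A ⧸ I` is. -/
theorem two_le_idealDepth_pow [IsNoetherianRing A] (hf : IsQuasiRegular f) (K : Ideal A) (m : ℕ)
    (h : (2 : ℕ∞) ≤ LocCoh.idealDepth K (A ⧸ Ideal.span (Set.range f))) :
    (2 : ℕ∞) ≤ LocCoh.idealDepth K (A ⧸ Ideal.span (Set.range f) ^ m) := by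
  set I := Ideal.span (Set.range f) with hI
  have htop : ∀ L : Ideal A, K • (⊤ : Submodule A (A ⧸ L)) = ⊤ ↔ K ⊔ L = ⊤ := by
    intro L
    rw [Ideal.smul_top_eq_map, Submodule.restrictScalars_eq_top_iff, Ideal.Quotient.algebraMap_eq,
      ← (Ideal.comap_injective_of_surjective _ (Ideal.Quotient.mk_surjective (I := L))).eq_iff,
      Ideal.comap_top, Ideal.comap_map_of_surjective _ Ideal.Quotient.mk_surjective,
      ← RingHom.ker_eq_comap_bot, Ideal.mk_ker]
  rcases eq_or_ne (K ⊔ I) ⊤ with hKI | hKI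
  · rw [Basic.idealDepth_of_smul_top_eq ((htop _).2 (Ideal.sup_pow_eq_top hKI))]
    exact le_top
  have hne : K • (⊤ : Submodule A (A ⧸ I)) ≠ ⊤ := fun hh => hKI ((htop I).1 hh)
  obtain ⟨rs, hlen, hmem, hrs⟩ := (Basic.le_idealDepth_iff_of_ne_top hne 2).1 h
  obtain ⟨x, y, rfl⟩ : ∃ x y, rs = [x, y] := List.length_eq_two.1 hlen
  rw [isWeaklyRegular_cons_iff, isWeaklyRegular_singleton_iff] at hrs
  have hx : ∀ a, x * a ∈ I → a ∈ I := fun a ha => by
    rw [← Ideal.Quotient.eq_zero_iff_mem]
    refine hrs.1.right_eq_zero_of_smul ?_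
    rw [Algebra.smul_def, Ideal.Quotient.algebraMap_eq, ← map_mul, Ideal.Quotient.eq_zero_iff_mem]
    exact ha
  have hy : ∀ a b, y * a - x * b ∈ I → ∃ e, a - x * e ∈ I := fun a b hab => by
    have h1 : y • (Submodule.Quotient.mk (Ideal.Quotient.mk I a) : QuotSMulTop x (A ⧸ I)) = 0 := by
      rw [← Submodule.Quotient.mk_smul, Submodule.Quotient.mk_eq_zero,
        Submodule.mem_smul_pointwise_iff_exists]
      refine ⟨Ideal.Quotient.mk I b, trivial, ?_⟩
      rw [Algebra.smul_def, Algebra.smul_def, Ideal.Quotient.algebraMap_eq, ← map_mul, ← map_mul,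
        eq_comm, Ideal.Quotient.eq]
      exact hab
    have h2 := hrs.2.right_eq_zero_of_smul h1
    rw [Submodule.Quotient.mk_eq_zero, Submodule.mem_smul_pointwise_iff_exists] at h2
    obtain ⟨e, -, he⟩ := h2
    obtain ⟨e, rfl⟩ := Ideal.Quotient.mk_surjective e
    rw [Algebra.smul_def, Ideal.Quotient.algebraMap_eq, ← map_mul, eq_comm, Ideal.Quotient.eq] at he
    exact ⟨e, he⟩
  refine (show (([x, y] : List A).length : ℕ∞) ≤ _ from Basic.length_le_idealDepth ?_ hmem)
  rw [isWeaklyRegular_cons_iff, isWeaklyRegular_singleton_iff]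
  refine ⟨IsSMulRegular.of_right_eq_zero_of_smul fun z hz => ?_,
    IsSMulRegular.of_right_eq_zero_of_smul fun z hz => ?_⟩
  · obtain ⟨a, rfl⟩ := Ideal.Quotient.mk_surjective z
    rw [Algebra.smul_def, Ideal.Quotient.algebraMap_eq, ← map_mul, Ideal.Quotient.eq_zero_iff_mem] at hz
    exact Ideal.Quotient.eq_zero_iff_mem.2 (mem_pow_of_mul_mem_pow f hf hx m a hz)
  · obtain ⟨z, rfl⟩ := Submodule.mkQ_surjective _ z
    obtain ⟨a, rfl⟩ := Ideal.Quotient.mk_surjective z
    rw [Submodule.mkQ_apply, ← Submodule.Quotient.mk_smul, Submodule.Quotient.mk_eq_zero,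
      Submodule.mem_smul_pointwise_iff_exists] at hz
    obtain ⟨b, -, hb⟩ := hz
    obtain ⟨b, rfl⟩ := Ideal.Quotient.mk_surjective b
    rw [Algebra.smul_def, Algebra.smul_def, Ideal.Quotient.algebraMap_eq, ← map_mul, ← map_mul,
      eq_comm, Ideal.Quotient.eq] at hb
    obtain ⟨e, he⟩ := exists_sub_mem_pow f hf hx hy m a b hb
    rw [Submodule.mkQ_apply, Submodule.Quotient.mk_eq_zero, Submodule.mem_smul_pointwise_iff_exists]
    refine ⟨Ideal.Quotient.mk _ e, trivial, ?_⟩
    rw [Algebra.smul_def, Ideal.Quotient.algebraMap_eq, ← map_mul, eq_comm, Ideal.Quotient.eq]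
    exact he

end Groth.Agent.H24.PowDepth
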