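import Groth.Agent.H24.PowDepth.Catenary
import Groth.Agent.H24.PowDepth.Regular
import Groth.Agent.Lib.Excellent.SectionsDepth
import Groth.Agent.Lib.Depth.Local
import Groth.Agent.H80.PuncturedExt
import Groth.Prelude.Def_EGA4b
import Mathlib.RingTheory.RegularLocalRing.Defs
import Mathlib.RingTheory.Localization.LocalizationLocalization

/-!
# Restriction of functions on infinitesimal neighbourhoods of a normal subscheme
-/

universe u

open CategoryTheory AlgebraicGeometry
open Groth.Agent.Lib.Depth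

set_option linter.style.haveILetI false

namespace Groth.Agent.H24.PowDepth

/-- Functions extend across a closed subset of depth at least two. -/
theorem restrict_bijective {B : Type u} [CommRing B] [IsNoetherianRing B] (J : Ideal B)
    (W : (Spec (CommRingCat.of B)).Opens) (hW : W = EGA4.openCompl B J)
    (h : (2 : ℕ∞) ≤ LocCoh.idealDepth J B) :
    Function.Bijective ((Spec (CommRingCat.of B)).presheaf.map (homOfLE (le_top : W ≤ ⊤)).op).hom := by
  subst hW
  have hb := Lib.Excellent.SectionsDepth.restrM_bijective_of_two_le J B h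
  let i := (Scheme.ΓSpecIso (CommRingCat.of B)).inv
  have hi : Function.Bijective i.hom := ConcreteCategory.bijective_of_isIso i
  have hcomp : Function.Bijective
      (i ≫ (Spec (CommRingCat.of B)).presheaf.map (homOfLE (le_top : EGA4.openCompl B J ≤ ⊤)).op).hom := hb
  rw [CommRingCat.hom_comp, RingHom.coe_comp] at hcomp
  exact ⟨fun a b hab => by
    obtain ⟨a, rfl⟩ := hi.2 a
    obtain ⟨b, rfl⟩ := hi.2 b
    exact congrArg _ (hcomp.1 hab), Function.Surjective.of_comp hcomp.2⟩

/-- A Noetherian normal domain is regular at its primes of height at most one. -/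
theorem mem_regLocus_of_height_le_one {A : Type u} [CommRing A] [IsDomain A] [IsNoetherianRing A]
    [IsIntegrallyClosed A] (P : PrimeSpectrum A) (h : P.asIdeal.height ≤ 1) : P ∈ EGA4.regLocus A := by
  let S := Localization.AtPrime P.asIdeal
  have hle := P.asIdeal.primeCompl_le_nonZeroDivisors
  haveI : IsIntegrallyClosed S := isIntegrallyClosed_of_isLocalization S P.asIdeal.primeCompl hle
  haveI : IsDomain S := IsLocalization.isDomain_localization hle
  haveI : Ring.KrullDimLE 1 S := by
    rw [Ring.krullDimLE_iff, IsLocalization.AtPrime.ringKrullDim_eq_height P.asIdeal S]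
    exact_mod_cast h
  haveI : Ring.DimensionLEOne S :=
    ⟨fun hne hprime => Ring.krullDimLE_one_iff_of_noZeroDivisors.1 inferInstance _ hne hprime⟩
  haveI : IsDedekindDomain S :=
    { (inferInstance : IsDomain S), (inferInstance : IsNoetherianRing S),
      (inferInstance : Ring.DimensionLEOne S), (inferInstance : IsIntegrallyClosed S) with }
  show IsRegularLocalRing S
  exact IsRegularLocalRing.of_isRegularRing_of_isLocalRing S

/-- Depth two along a closed subset of codimension two of a normal domain. -/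
theorem two_le_idealDepth_of_height {C : Type u} [CommRing C] [IsDomain C] [IsNoetherianRing C]
    [IsIntegrallyClosed C] (K : Ideal C)
    (h : ∀ Q : Ideal C, ∀ _ : Q.IsPrime, K ≤ Q → (2 : ℕ∞) ≤ Q.height) :
    (2 : ℕ∞) ≤ LocCoh.idealDepth K C := by
  rw [Local.idealDepth_eq_iInf K C]
  refine le_iInf₂ fun Q hQ => ?_
  let S := Localization.AtPrime Q.asIdeal
  have hle := Q.asIdeal.primeCompl_le_nonZeroDivisors
  haveI : IsIntegrallyClosed S := isIntegrallyClosed_of_isLocalization S Q.asIdeal.primeCompl hle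
  haveI : IsDomain S := IsLocalization.isDomain_localization hle
  have hd : (2 : ℕ∞) ≤ LocCoh.depth S S := H80.PuncturedExt.two_le_depth (by
    rw [IsLocalization.AtPrime.ringKrullDim_eq_height Q.asIdeal S]
    exact WithBot.coe_le_coe.2 (h Q.asIdeal Q.2 hQ))
  let e : LocalizedModule Q.asIdeal.primeCompl C ≃ₗ[S] S :=
    (IsLocalizedModule.linearEquiv Q.asIdeal.primeCompl
      (LocalizedModule.mkLinearMap Q.asIdeal.primeCompl C) (Algebra.linearMap C S)).extendScalarsOfIsLocalization
        Q.asIdeal.primeCompl S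
  rwa [Basic.depth_congr e]

/-- The statement on the infinitesimal neighbourhoods. -/
theorem main (A : Type u) [CommRing A] [IsDomain A] [IsNoetherianRing A] [IsIntegrallyClosed A]
    (hcat : CAlg.IsCatenary A) (J : Ideal A)
    (hJ : ∀ x : PrimeSpectrum A, J ≤ x.asIdeal ↔ x ∉ EGA4.regLocus A)
    (p : Ideal A) [p.IsPrime] {c : ℕ} (f : Fin c → A) (hf : CAlgX.IsQuasiRegular f)
    (hp : Ideal.span (Set.range f) = p) (hnorm : IsIntegrallyClosed (A ⧸ p))
    (hht : p.height + J.height ≤ (p ⊔ J).height)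
    (U : (Spec (CommRingCat.of A)).Opens)
    (hUreg : ∀ x : PrimeSpectrum A, p ≤ x.asIdeal → x ∈ EGA4.regLocus A → x ∈ U.1) (m : ℕ) :
    Function.Bijective ((Spec (CommRingCat.of (A ⧸ p ^ m))).presheaf.map
      (homOfLE (le_top : Spec.map (CommRingCat.ofHom (Ideal.Quotient.mk (p ^ m))) ⁻¹ᵁ U ≤ ⊤)).op).hom := by
  obtain ⟨K, hK⟩ := (PrimeSpectrum.isClosed_iff_zeroLocus_ideal _).1 U.isOpen.isClosed_compl
  have hKU : ∀ x : PrimeSpectrum A, x ∈ U.1 ↔ ¬ K ≤ x.asIdeal := fun x => by
    have hx : x ∈ (U.1 : Set (PrimeSpectrum A))ᶜ ↔ x ∈ PrimeSpectrum.zeroLocus (K : Set A) :=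
      Set.ext_iff.1 hK x
    have hx' : ¬ x ∈ U.1 ↔ K ≤ x.asIdeal := hx
    rw [← hx', not_not]
  have hC : (2 : ℕ∞) ≤ LocCoh.idealDepth (K.map (algebraMap A (A ⧸ p))) (A ⧸ p) := by
    refine two_le_idealDepth_of_height _ fun Q hQ hKQ => ?_
    let q : PrimeSpectrum A := ⟨Q.comap (Ideal.Quotient.mk p), inferInstance⟩
    have hpq : p ≤ q.asIdeal := by
      intro a ha
      show Ideal.Quotient.mk p a ∈ Q
      rw [Ideal.Quotient.eq_zero_iff_mem.2 ha]
      exact zero_mem _
    have hqU : q ∉ U.1 := fun hq => (hKU q).1 hq (Ideal.map_le_iff_le_comap.1 hKQ)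
    have hJq : J ≤ q.asIdeal := (hJ q).2 fun hr => hqU (hUreg q hpq hr)
    have hJ2 : (2 : ℕ∞) ≤ J.height := by
      rw [Ideal.height_eq_inf_minimalPrimes]
      refine le_iInf₂ fun P hP => ?_
      by_contra hlt
      have : P.height ≤ 1 := Order.le_of_lt_add_one (by rw [one_add_one_eq_two]; exact not_le.1 hlt)
      exact (hJ ⟨P, hP.1.1⟩).1 hP.1.2 (mem_regLocus_of_height_le_one ⟨P, hP.1.1⟩ this)
    have h1 : p.height + 2 ≤ p.height + Q.height := by
      rw [← height_eq_add hcat p Q]
      exact ((add_le_add le_rfl hJ2).trans hht).trans (Ideal.height_mono (sup_le hpq hJq))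
    exact (ENat.add_le_add_iff_left Ideal.height_ne_top_of_isPrime).1 h1
  rw [← Basic.idealDepth_eq_map_of_surjective (R := A) (S := A ⧸ p) Ideal.Quotient.mk_surjective K] at hC
  subst hp
  have hB := two_le_idealDepth_pow f hf K m hC
  rw [Basic.idealDepth_eq_map_of_surjective (R := A) (S := A ⧸ Ideal.span (Set.range f) ^ m)
    Ideal.Quotient.mk_surjective K] at hB
  refine restrict_bijective (K.map (algebraMap A (A ⧸ Ideal.span (Set.range f) ^ m))) _ ?_ hB
  refine TopologicalSpace.Opens.ext (Set.ext fun x => ?_)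
  show (⟨x.asIdeal.comap (Ideal.Quotient.mk _), x.isPrime.comap _⟩ : PrimeSpectrum A) ∈ U.1 ↔
    ¬ (K.map (algebraMap A (A ⧸ Ideal.span (Set.range f) ^ m)) : Set (A ⧸ Ideal.span (Set.range f) ^ m)) ⊆ x.asIdeal
  rw [hKU, SetLike.coe_subset_coe, Ideal.map_le_iff_le_comap]
  rfl

end Groth.Agent.H24.PowDepth
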